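import Cfsg.Agent.Lib.LocalEven.SL2Bound
import Cfsg.Agent.Lib.LocalEven.UnitaryBound
import Cfsg.Agent.Lib.LocalEven.FixedFreeModels
import Cfsg.Agent.Lib.KnownB.SuzukiTori
import Cfsg.Agent.S1141
import Cfsg.Agent.S0283
import Mathlib

/-!
Faithful modules over the field with two elements for groups having a section `SL(2, q)`, `Sz(q)` or `PSU(3, q)`,
`q` even: lower bounds for the dimension and for the commutator rank of an involution.
-/

set_option autoImplicit false
set_option linter.style.haveILetI false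

namespace CfsgLib.Involution.SEModule

open Subgroup
open scoped MatrixGroups

universe u v

variable {G : Type u} [Group G] {V : Type v} [AddCommGroup V] [Module (ZMod 2) V]

/-- The commutator rank. -/
noncomputable def crank (ρ : Representation (ZMod 2) G V) (g : G) : ℕ :=
  Module.finrank (ZMod 2) (LinearMap.range (ρ g - 1))

theorem crank_conj (ρ : Representation (ZMod 2) G V) [Module.Finite (ZMod 2) V] (g a : G) :
    crank ρ (g * a * g⁻¹) = crank ρ a := by
  let e : V ≃ₗ[ZMod 2] V := LinearEquiv.ofLinearMap (ρ g) (ρ g⁻¹)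
    (by rw [← Module.End.mul_eq_comp, ← map_mul, mul_inv_cancel, map_one]; rfl)
    (by rw [← Module.End.mul_eq_comp, ← map_mul, inv_mul_cancel, map_one]; rfl)
  have h : ρ (g * a * g⁻¹) - 1 = (e : V →ₗ[ZMod 2] V) ∘ₗ (ρ a - 1) ∘ₗ (e.symm : V →ₗ[ZMod 2] V) := by
    show ρ (g * a * g⁻¹) - 1 = ρ g * ((ρ a - 1) * ρ g⁻¹)
    rw [sub_mul, one_mul, mul_sub, ← mul_assoc, ← map_mul, ← map_mul, ← map_mul, mul_inv_cancel, map_one]
  rw [crank, h, LinearMap.range_comp, LinearMap.range_comp_of_range_eq_top _ (LinearEquiv.range _),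
    LinearEquiv.finrank_map_eq]
  rfl

theorem crank_pow_le (ρ : Representation (ZMod 2) G V) [Module.Finite (ZMod 2) V] (g : G) (i : ℕ) :
    crank ρ (g ^ i) ≤ crank ρ g := by
  refine Submodule.finrank_mono ?_
  rw [map_pow, ← mul_geom_sum (ρ g) i, Module.End.mul_eq_comp]
  exact LinearMap.range_comp_le_range _ _

theorem crank_mul_le (ρ : Representation (ZMod 2) G V) [Module.Finite (ZMod 2) V] (a b : G) :
    crank ρ (a * b) ≤ crank ρ a + crank ρ b := by
  refine (Submodule.finrank_mono (t := LinearMap.range (ρ a - 1) ⊔ LinearMap.range (ρ b - 1)) ?_).trans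
    (Submodule.finrank_add_le_finrank_add_finrank _ _)
  rintro x ⟨y, rfl⟩
  have h : ρ (a * b) - 1 = (ρ a - 1) * ρ b + (ρ b - 1) := by rw [map_mul, sub_mul, one_mul]; abel
  rw [h, LinearMap.add_apply]
  exact add_mem (Submodule.mem_sup_left ⟨ρ b y, rfl⟩) (Submodule.mem_sup_right ⟨y, rfl⟩)

section Ext

variable (ρ : Representation (ZMod 2) G V)

/-- The action on the multiplicative copy. -/
noncomputable def mulAct : G →* MulAut (Multiplicative V) where
  toFun g :=
    { toFun := fun x => Multiplicative.ofAdd (ρ g (Multiplicative.toAdd x))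
      invFun := fun x => Multiplicative.ofAdd (ρ g⁻¹ (Multiplicative.toAdd x))
      left_inv := fun x => by
        simp only [toAdd_ofAdd]
        rw [← Module.End.mul_apply, ← map_mul, inv_mul_cancel, map_one]
        rfl
      right_inv := fun x => by
        simp only [toAdd_ofAdd]
        rw [← Module.End.mul_apply, ← map_mul, mul_inv_cancel, map_one]
        rfl
      map_mul' := fun x y => by simp only [toAdd_mul, map_add, ofAdd_add] }
  map_one' := MulEquiv.ext fun x => by simp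
  map_mul' g h := MulEquiv.ext fun x => by simp

/-- The semidirect product. -/
abbrev Ext : Type (max u v) := Multiplicative V ⋊[mulAct ρ] G

/-- The normal subgroup `V`. -/
noncomputable abbrev vSub : Subgroup (Ext ρ) := (SemidirectProduct.inl : Multiplicative V →* Ext ρ).range

instance vSub_normal : (vSub ρ).Normal := by
  rw [vSub, SemidirectProduct.range_inl_eq_ker_rightHom]
  infer_instance

instance vSub_comm : IsMulCommutative (vSub ρ) :=
  ⟨⟨by rintro ⟨_, a, rfl⟩ ⟨_, b, rfl⟩; exact Subtype.ext (by simp only [Subgroup.coe_mul, ← map_mul, mul_comm a b])⟩⟩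

theorem vSub_pow : ∀ x ∈ vSub ρ, x ^ 2 = 1 := by
  rintro _ ⟨a, rfl⟩
  rw [← map_pow, pow_two, show a * a = 1 from ZModModule.add_self (Multiplicative.toAdd a), map_one]

theorem card_vSub [Module.Finite (ZMod 2) V] : Nat.card (vSub ρ) = 2 ^ Module.finrank (ZMod 2) V := by
  rw [← Nat.card_congr (MonoidHom.ofInjective SemidirectProduct.inl_injective).toEquiv,
    Nat.card_congr Multiplicative.toAdd, Module.natCard_eq_pow_finrank (K := ZMod 2), Nat.card_zmod]

theorem faithful (hρ : Function.Injective ρ) (K : Subgroup G) :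
    K.map (SemidirectProduct.inr : G →* Ext ρ) ⊓ centralizer ((vSub ρ : Subgroup (Ext ρ)) : Set (Ext ρ)) = ⊥ := by
  rw [eq_bot_iff_forall]
  rintro _ ⟨⟨g, -, rfl⟩, hc⟩
  have h1 : ρ g = 1 := LinearMap.ext fun v => by
    have h2 : (SemidirectProduct.inl (Multiplicative.ofAdd v) : Ext ρ) * SemidirectProduct.inr g =
        SemidirectProduct.inr g * SemidirectProduct.inl (Multiplicative.ofAdd v) :=
      (mem_centralizer_iff.1 hc) _ ⟨_, rfl⟩
    have h3 : (SemidirectProduct.inl (mulAct ρ g (Multiplicative.ofAdd v)) : Ext ρ) =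
        SemidirectProduct.inl (Multiplicative.ofAdd v) := by
      rw [SemidirectProduct.inl_aut, ← h2, map_inv, mul_inv_cancel_right]
    simpa [mulAct] using congrArg Multiplicative.toAdd (SemidirectProduct.inl_injective h3)
  rw [hρ (h1.trans (map_one ρ).symm), map_one]

theorem relIndex_eq [Module.Finite (ZMod 2) V] (g : G) :
    (vSub ρ ⊓ centralizer ({SemidirectProduct.inr g} : Set (Ext ρ))).relIndex (vSub ρ) = 2 ^ crank ρ g := by
  rw [inf_relIndex_left, ← index_comap]
  set ψ : Multiplicative V →* Multiplicative V := (ρ g - 1).toAddMonoidHom.toMultiplicative with hψ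
  have hker : (centralizer ({SemidirectProduct.inr g} : Set (Ext ρ))).comap SemidirectProduct.inl = ψ.ker := by
    ext x
    rw [mem_comap, mem_centralizer_singleton_iff, MonoidHom.mem_ker]
    constructor
    · intro h
      have h3 : (SemidirectProduct.inl (mulAct ρ g x) : Ext ρ) = SemidirectProduct.inl x := by
        rw [SemidirectProduct.inl_aut, ← h, map_inv, mul_inv_cancel_right]
      have h4 := congrArg Multiplicative.toAdd (SemidirectProduct.inl_injective h3)
      apply Multiplicative.toAdd.injective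
      simp only [mulAct, MonoidHom.coe_mk, OneHom.coe_mk, MulEquiv.coe_mk, Equiv.coe_fn_mk, toAdd_ofAdd] at h4
      simp [hψ, h4]
    · intro h
      have h4 : mulAct ρ g x = x := by
        apply Multiplicative.toAdd.injective
        have h5 := congrArg Multiplicative.toAdd h
        simp only [hψ, AddMonoidHom.toMultiplicative_apply_apply, LinearMap.toAddMonoidHom_coe, toAdd_ofAdd,
          toAdd_one, LinearMap.sub_apply, sub_eq_zero] at h5
        simpa [mulAct] using h5
      have h6 := SemidirectProduct.inl_aut (φ := mulAct ρ) g x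
      rw [h4, map_inv, eq_mul_inv_iff_mul_eq] at h6
      exact h6
  rw [hker, index_ker]
  have e : Nat.card ψ.range = Nat.card (LinearMap.range (ρ g - 1)) := Nat.card_congr
    { toFun := fun x => ⟨Multiplicative.toAdd x.1, by
        obtain ⟨y, hy⟩ := x.2
        exact ⟨Multiplicative.toAdd y, congrArg Multiplicative.toAdd hy⟩⟩
      invFun := fun x => ⟨Multiplicative.ofAdd x.1, by
        obtain ⟨y, hy⟩ := x.2
        exact ⟨Multiplicative.ofAdd y, congrArg Multiplicative.ofAdd hy⟩⟩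
      left_inv := fun x => rfl
      right_inv := fun x => rfl }
  rw [e, Module.natCard_eq_pow_finrank (K := ZMod 2), Nat.card_zmod]
  rfl

end Ext

variable [Finite G] [Module.Finite (ZMod 2) V]

instance (ρ : Representation (ZMod 2) G V) : Finite (Ext ρ) := by
  haveI : Finite V := Module.finite_of_finite (ZMod 2)
  exact Finite.of_equiv _ SemidirectProduct.equivProd.symm

omit [Finite G] [Module.Finite (ZMod 2) V] in
theorem normal_le (ρ : Representation (ZMod 2) G V) (K : Subgroup (Ext ρ)) :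
    K ≤ normalizer ((vSub ρ : Subgroup (Ext ρ)) : Set (Ext ρ)) :=
  le_of_le_of_eq le_top (normalizer_eq_top _).symm

variable {Q : Type*} [Group Q] [Finite Q]

omit [Finite G] [Finite Q] in
/-- A map with kernel of odd order does not lose involutions. -/
theorem map_ne_one {H0 : Subgroup G} {φ : ↥H0 →* Q} (hker : Odd (Nat.card φ.ker)) {s : ↥H0} {i : ℕ}
    (hs : s ^ 2 ^ i = 1) (h : φ s = 1) : s = 1 := by
  have h1 : orderOf s ∣ Nat.card φ.ker := orderOf_mk s (MonoidHom.mem_ker.2 h) ▸ orderOf_dvd_natCard _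
  exact orderOf_eq_one_iff.1 (Nat.eq_one_of_dvd_coprimes ((Nat.coprime_two_left.2 hker).pow_left i)
    (orderOf_dvd_of_pow_eq_one hs) h1)

omit [Finite Q] in
/-- The order of a Sylow `2`-subgroup inside `H0` is the `2`-part of the order of the quotient. -/
theorem card_sylow_eq {H0 : Subgroup G} {φ : ↥H0 →* Q} (hφ : Function.Surjective φ)
    (hker : Odd (Nat.card φ.ker)) (S : Sylow 2 G) (hSH : (S : Subgroup G) ≤ H0) :
    Nat.card S = 2 ^ (Nat.card Q).factorization 2 := by
  haveI : Fact (Nat.Prime 2) := ⟨Nat.prime_two⟩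
  have h1 := (S.subtype hSH).card_eq_multiplicity
  rw [S.coe_subtype, Nat.card_congr (subgroupOfEquivOfLe hSH).toEquiv] at h1
  rw [h1, ← φ.ker.card_mul_index, index_ker, φ.range_eq_top.2 hφ, card_top,
    Nat.factorization_mul Nat.card_pos.ne' (fun h => by
      haveI := Finite.of_surjective _ hφ
      exact Nat.card_pos.ne' h), Finsupp.add_apply,
    Nat.factorization_eq_zero_of_not_dvd (fun h => (Nat.not_even_iff_odd.2 hker) (even_iff_two_dvd.2 h)), zero_add]

/-- The case `SL(2, q)`. -/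
theorem case_sl {F : Type*} [Field F] [Fintype F] [CharP F 2] (h4 : 4 ≤ Fintype.card F)
    (ρ : Representation (ZMod 2) G V) (hρ : Function.Injective ρ) {H0 : Subgroup G} (φ : ↥H0 →* SL(2, F))
    (hφ : Function.Surjective φ) (hker : Odd (Nat.card φ.ker)) (S : Sylow 2 G) (hSH : (S : Subgroup G) ≤ H0)
    {a : G} (haS : a ∈ (S : Subgroup G)) (ha : orderOf a = 2) {k : ℕ} (hk : Nat.card S = 2 ^ k) :
    2 * k ≤ Module.finrank (ZMod 2) V ∧ k ≤ crank ρ a := by
  haveI : Fact (Nat.Prime 2) := ⟨Nat.prime_two⟩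
  have hc : Nat.card S = Fintype.card F := by
    rw [card_sylow_eq hφ hker S hSH, CfsgLib.Classical.sl2_ordProj (F := F) 2]
  have hF : Fintype.card F = 2 ^ k := hc ▸ hk
  have hn : 2 ≤ k := by
    by_contra h
    have : 2 ^ k ≤ 2 ^ 1 := Nat.pow_le_pow_right (by norm_num) (by omega)
    omega
  let ι : G →* Ext ρ := SemidirectProduct.inr
  let e0 : ↥H0 ≃* ↥(H0.map ι) := H0.equivMapOfInjective ι SemidirectProduct.inr_injective
  have hb : φ ⟨a, hSH haS⟩ ≠ 1 := fun h => by
    have := map_ne_one hker (i := 1) (s := ⟨a, hSH haS⟩) (Subtype.ext (by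
      rw [pow_one, SubgroupClass.coe_pow]; exact ha ▸ pow_orderOf_eq_one a)) h
    rw [show a = 1 from congrArg Subtype.val this, orderOf_one] at ha
    omega
  have hbp : IsPGroup 2 (zpowers (φ ⟨a, hSH haS⟩)) := by
    refine IsPGroup.of_card (n := 1) ?_
    rw [Nat.card_zpowers, pow_one]
    refine orderOf_eq_prime ?_ hb
    rw [← map_pow, show (⟨a, hSH haS⟩ : ↥H0) ^ 2 = 1 from Subtype.ext (by
      rw [SubgroupClass.coe_pow]; exact ha ▸ pow_orderOf_eq_one a), map_one]
  obtain ⟨h1, h2⟩ := CfsgLib.LocalEven.SL2Bound.bounds (vSub_comm ρ) (vSub_pow ρ) (normal_le ρ _)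
    (faithful ρ hρ H0) hF hn (φ.comp e0.symm.toMonoidHom) (hφ.comp e0.symm.surjective) (MonoidHom.id SL(2, F))
    (fun g (hg : g = 1) => by rw [hg, one_mul]) (mem_map_of_mem ι (hSH haS)) (φ ⟨a, hSH haS⟩) hb hbp (by
      show φ (e0.symm ⟨ι a, _⟩) = φ ⟨a, hSH haS⟩
      refine congrArg φ (e0.symm_apply_eq.2 (Subtype.ext ?_))
      rfl)
  rw [card_vSub, ← pow_mul] at h1
  rw [relIndex_eq] at h2
  exact ⟨mul_comm 2 k ▸ (Nat.pow_le_pow_iff_right (by norm_num)).1 h1,
    (Nat.pow_le_pow_iff_right (by norm_num)).1 h2⟩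

omit [Finite Q] in
/-- A lift of an involution. -/
theorem exists_lift {H0 : Subgroup G} {φ : ↥H0 →* Q} (hφ : Function.Surjective φ)
    (hker : Odd (Nat.card φ.ker)) {t : Q} (ht : orderOf t = 2) : ∃ b : ↥H0, φ b = t ∧ orderOf b = 2 := by
  obtain ⟨x, rfl⟩ := hφ t
  obtain ⟨i, m, hm, hx⟩ : ∃ i m, Odd m ∧ orderOf x = 2 ^ i * m := by
    obtain ⟨i, m, hm, h⟩ := Nat.exists_eq_pow_mul_and_not_dvd (orderOf_pos x).ne' 2 (by norm_num)
    exact ⟨i, m, Nat.odd_iff.2 (by omega), h⟩
  have hb : φ (x ^ m) = φ x := by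
    obtain ⟨l, rfl⟩ := hm
    rw [map_pow, pow_succ, pow_mul, ← ht, pow_orderOf_eq_one, one_pow, one_mul]
  refine ⟨x ^ m, hb, orderOf_eq_prime ?_ fun h => ?_⟩
  · refine map_ne_one hker (i := i) ?_ ?_
    · rw [← pow_mul, ← pow_mul, show m * (2 * 2 ^ i) = orderOf x * 2 by rw [hx]; ring, pow_mul,
        pow_orderOf_eq_one, one_pow]
    · rw [map_pow, hb, ← ht, pow_orderOf_eq_one]
  · rw [h, map_one] at hb
    rw [← hb, orderOf_one] at ht
    omega

/-- The case of the Suzuki groups. -/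
theorem case_sz {F : Type} [Field F] [Fintype F] {m : ℕ} (hm : 1 ≤ m) (hF : Fintype.card F = 2 ^ (2 * m + 1))
    (ρ : Representation (ZMod 2) G V) (hρ : Function.Injective ρ)
    (hconj : ∀ a b : G, orderOf a = 2 → orderOf b = 2 → IsConj a b) {H0 : Subgroup G}
    (φ : ↥H0 →* Cfsg.Lie.Sz F (2 ^ (m + 1))) (hφ : Function.Surjective φ) (hker : Odd (Nat.card φ.ker))
    (S : Sylow 2 G) (hSH : (S : Subgroup G) ≤ H0) {a : G} (ha : orderOf a = 2) {k : ℕ}
    (hk : Nat.card S = 2 ^ k) :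
    2 * k ≤ Module.finrank (ZMod 2) V ∧ k ≤ crank ρ a := by
  classical
  haveI : Fact (Nat.Prime 2) := ⟨Nat.prime_two⟩
  set f := 2 * m + 1 with hf
  have hp := CfsgLib.KnownB.Suzuki.params_of_card hm hF
  have hcard : Nat.card (Cfsg.Lie.Sz F (2 ^ (m + 1))) = (2 ^ f) ^ 2 * (2 ^ f - 1) * ((2 ^ f) ^ 2 + 1) := by
    rw [CfsgLib.KnownB.Suzuki.card_Sz (CfsgLib.KnownB.SzElem.twist_of_card hF), hF]
  have h2f : 2 ∣ 2 ^ f := dvd_pow_self 2 (by omega)
  have hk2 : k = 2 * f := by
    have h1 : 1 ≤ 2 ^ f := Nat.one_le_two_pow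
    have h2 : 2 ∣ (2 ^ f) ^ 2 := dvd_pow h2f two_ne_zero
    have h3 : 2 ≤ 2 ^ f := Nat.le_self_pow (by omega) 2
    have hc := card_sylow_eq hφ hker S hSH
    rw [hk, hcard, Nat.factorization_mul (mul_ne_zero (by positivity) (by omega)) (by positivity),
      Nat.factorization_mul (by positivity) (by omega), Finsupp.add_apply, Finsupp.add_apply,
      Nat.factorization_eq_zero_of_not_dvd (show ¬ 2 ∣ (2 ^ f) ^ 2 + 1 by omega),
      Nat.factorization_eq_zero_of_not_dvd (show ¬ 2 ∣ 2 ^ f - 1 by omega), ← pow_mul,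
      Nat.Prime.factorization_pow Nat.prime_two, Finsupp.single_eq_same, add_zero, add_zero, mul_comm f] at hc
    exact Nat.pow_right_injective le_rfl hc
  obtain ⟨r, hr, hr1, hr2⟩ := CfsgLib.NT.exists_primitive_prime (q := 2) (n := 4 * f) le_rfl
    (by omega) (fun h => by omega) (fun h => by omega)
  haveI := Fact.mk hr
  have hN : orderOf ((2 : ℕ) : ZMod r) = 4 * f :=
    (CfsgLib.NT.orderOf_eq_iff_primitive (by norm_num) (by omega)).2 ⟨hr1, hr2⟩
  have hrodd : r ≠ 2 := fun h => CfsgLib.NT.primitive_not_dvd_base le_rfl (by omega) hr hr1 (h ▸ dvd_rfl)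
  have hrq : r ∣ Nat.card (Cfsg.Lie.Sz F (2 ^ (m + 1))) := by
    have hd : r ∣ ((2 ^ f) ^ 2 - 1) * ((2 ^ f) ^ 2 + 1) := by
      rw [mul_comm, ← Nat.sq_sub_sq, one_pow, ← pow_mul, ← pow_mul]
      convert hr1 using 3
      ring
    rw [hcard]
    rcases hr.dvd_mul.1 hd with h | h
    · rw [← pow_mul] at h
      exact absurd h (hr2 _ (by omega) (by omega))
    · exact h.mul_left _
  obtain ⟨x, hx⟩ := exists_prime_orderOf_dvd_card' r hrq
  obtain ⟨t, ht, htx⟩ := CfsgLib.LocalEven.FixedFreeModels.inverted hF (x := x) (fun ⟨j, hj⟩ =>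
    hrodd ((Nat.prime_dvd_prime_iff_eq hr Nat.prime_two).1 (hr.dvd_of_dvd_pow (n := j) (by rw [← hj, hx]))))
  have hx2 : x ^ 2 ≠ 1 := fun h => by
    have := orderOf_dvd_of_pow_eq_one h
    rw [hx] at this
    exact hrodd ((Nat.prime_dvd_prime_iff_eq hr Nat.prime_two).1 this)
  have ht1 : t ≠ 1 := fun h => hx2 (by
    rw [h, one_mul, inv_one, mul_one] at htx
    rw [pow_two]; nth_rw 2 [htx]; exact mul_inv_cancel x)
  have hto : orderOf t = 2 := orderOf_eq_prime ht ht1
  have htt : t * t = 1 := by rw [← pow_two]; exact ht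
  have htxo : orderOf (t * x) = 2 := orderOf_eq_prime (by
      rw [pow_two, show t * x * (t * x) = t * x * t⁻¹ * (t * t) * x by group, htx, htt, mul_one, inv_mul_cancel])
    (fun h => by
      have h1 : x = t := by rw [eq_inv_of_mul_eq_one_right h, inv_eq_of_mul_eq_one_right htt]
      exact hx2 (h1 ▸ ht))
  obtain ⟨b, hb, hbo⟩ := exists_lift hφ hker hto
  obtain ⟨c, hc, hco⟩ := exists_lift hφ hker htxo
  have hbc : φ (b * c) = x := by rw [map_mul, hb, hc, ← mul_assoc, htt, one_mul]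
  set l := orderOf (b * c) / r with hl
  have hy : orderOf ((b * c) ^ l) = r := orderOf_pow_orderOf_div (orderOf_pos _).ne'
    (hx ▸ hbc ▸ orderOf_map_dvd φ (b * c))
  set y : G := (((b * c) ^ l : ↥H0) : G) with hyd
  have hyo : orderOf y = r := by rw [hyd, orderOf_coe, hy]
  let ι : G →* Ext ρ := SemidirectProduct.inr
  have key := CfsgLib.LocalEven.SL2Bound.pow_le_relIndex (vSub_comm ρ) (vSub_pow ρ) hr hrodd one_ne_zero
    (N := 4 * f) (by rw [pow_one]; exact hN) (y := ι y) (normal_le ρ ⊤ (mem_top _))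
    (by rw [orderOf_injective ι SemidirectProduct.inr_injective, hyo, pow_one]) (fun h => by
      rw [Nat.sub_self, pow_zero, pow_one] at h
      have h1 := (eq_bot_iff_forall _).1 (faithful ρ hρ ⊤) (ι y) ⟨mem_map_of_mem ι (mem_top _), h⟩
      have h2 : y = 1 := SemidirectProduct.inr_injective (h1.trans (map_one ι).symm)
      rw [h2, orderOf_one] at hyo
      exact hr.one_lt.ne' hyo.symm)
  rw [relIndex_eq, Nat.pow_le_pow_iff_right (by norm_num)] at key
  have hsame : ∀ u : ↥H0, orderOf u = 2 → crank ρ (u : G) = crank ρ a := fun u hu => by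
    obtain ⟨g, hg⟩ := isConj_iff.1 (hconj a u ha (by rw [orderOf_coe, hu]))
    rw [← hg, crank_conj]
  have hsum := (crank_pow_le ρ ((b * c : ↥H0) : G) l).trans (crank_mul_le ρ (b : G) (c : G))
  rw [← SubgroupClass.coe_pow, ← hyd, hsame b hbo, hsame c hco] at hsum
  refine ⟨?_, by omega⟩
  have := key.trans (Submodule.finrank_le _)
  omega

/-- The case of the unitary groups. -/
theorem case_psu {F : Type*} [Field F] [Fintype F] {n : ℕ} (hn : 2 ≤ n) (hF : Fintype.card F = (2 ^ n) ^ 2)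
    (ρ : Representation (ZMod 2) G V) (hρ : Function.Injective ρ) {H0 : Subgroup G}
    (φ : ↥H0 →* Cfsg.PSU 3 F (2 ^ n)) (hφ : Function.Surjective φ) (hker : Odd (Nat.card φ.ker))
    (S : Sylow 2 G) (hSH : (S : Subgroup G) ≤ H0) {a : G}
    (haS : a ∈ (S : Subgroup G) ⊓ centralizer ((S : Subgroup G) : Set G)) (ha : a ≠ 1) {k : ℕ}
    (hk : Nat.card S = 2 ^ k) :
    2 * k ≤ Module.finrank (ZMod 2) V ∧
      ∀ c, Nat.card ↥((S : Subgroup G) ⊓ centralizer ((S : Subgroup G) : Set G)) = 2 ^ c → c ≤ crank ρ a := by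
  classical
  haveI : Fact (Nat.Prime 2) := ⟨Nat.prime_two⟩
  let P : Sylow 2 ↥H0 := S.subtype hSH
  let P' : Sylow 2 (Cfsg.PSU 3 F (2 ^ n)) := P.mapSurjective hφ
  obtain ⟨hS3, hSc, -⟩ := Cfsg.Agent.S1141.result hn hF P'
  have hk3 : k = 3 * n := by
    refine Nat.pow_right_injective le_rfl (show 2 ^ k = 2 ^ (3 * n) from ?_)
    rw [← hk, card_sylow_eq hφ hker S hSH, ← Sylow.card_eq_multiplicity P', hS3, ← pow_mul, mul_comm]
  have hcentre : Nat.card ↥((S : Subgroup G) ⊓ centralizer ((S : Subgroup G) : Set G)) ≤ 2 ^ n := by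
    rw [← hSc]
    refine Nat.card_le_card_of_injective (fun x =>
      ⟨⟨φ ⟨x.1, hSH x.2.1⟩, ⟨⟨x.1, hSH x.2.1⟩, x.2.1, rfl⟩⟩, mem_center_iff.2 ?_⟩) ?_
    · rintro ⟨_, u, hu, rfl⟩
      refine Subtype.ext ?_
      show φ u * φ ⟨x.1, hSH x.2.1⟩ = φ ⟨x.1, hSH x.2.1⟩ * φ u
      rw [← map_mul, ← map_mul]
      exact congrArg φ (Subtype.ext (mem_centralizer_iff.1 x.2.2 (u : G) hu))
    · intro x y hxy
      have h1 : φ ⟨x.1, hSH x.2.1⟩ = φ ⟨y.1, hSH y.2.1⟩ := congrArg (fun z => (z.1 : Cfsg.PSU 3 F (2 ^ n))) hxy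
      have hd : x.1 * y.1⁻¹ ∈ (S : Subgroup G) := mul_mem x.2.1 (inv_mem y.2.1)
      obtain ⟨i, hi⟩ := S.2 ⟨_, hd⟩
      have h2 := map_ne_one hker (s := ⟨x.1 * y.1⁻¹, hSH hd⟩) (i := i)
        (Subtype.ext (by simpa using congrArg Subtype.val hi)) (by
          rw [show (⟨x.1 * y.1⁻¹, hSH hd⟩ : ↥H0) = ⟨x.1, hSH x.2.1⟩ * ⟨y.1, hSH y.2.1⟩⁻¹ from rfl, map_mul,
            map_inv, h1, mul_inv_cancel])
      exact Subtype.ext (mul_inv_eq_one.1 (congrArg Subtype.val h2))
  haveI hsimple : IsSimpleGroup (Cfsg.PSU 3 F (2 ^ n)) := Cfsg.Agent.S0283.result hF 3 le_rfl (fun h => by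
    have : 2 ^ 2 ≤ 2 ^ n := Nat.pow_le_pow_right (by norm_num) hn
    omega)
  let ι : G →* Ext ρ := SemidirectProduct.inr
  let e0 : ↥H0 ≃* ↥(H0.map ι) := H0.equivMapOfInjective ι SemidirectProduct.inr_injective
  set φ' := φ.comp e0.symm.toMonoidHom with hφ'
  have hφ's : Function.Surjective φ' := hφ.comp e0.symm.surjective
  have hcore : Cfsg.pPrimeCore 2 ↥(H0.map ι) = φ'.ker := by
    refine le_antisymm ?_ (CfsgLib.Solvable.Cores.le_pPrimeCore ?_)
    · rcases ((CfsgLib.Solvable.Cores.pPrimeCore_normal (G := ↥(H0.map ι)) 2).map φ' hφ's).eq_bot_or_eq_top with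
        h | h
      · exact (Subgroup.map_eq_bot_iff _).1 h
      · exfalso
        have h1 : (Nat.card (Cfsg.PSU 3 F (2 ^ n))).Coprime 2 := by
          have := CfsgLib.Solvable.Cores.coprime_card_pPrimeCore (G := ↥(H0.map ι)) 2
          refine Nat.Coprime.coprime_dvd_left ?_ this
          rw [← card_top (G := Cfsg.PSU 3 F (2 ^ n)), ← h]
          exact card_map_dvd _ φ'
        have h2 : 2 ∣ Nat.card (Cfsg.PSU 3 F (2 ^ n)) :=
          (hS3 ▸ dvd_pow (dvd_pow_self 2 (by omega)) (by norm_num) : 2 ∣ Nat.card P').trans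
            (card_subgroup_dvd_card _)
        have := Nat.eq_one_of_dvd_coprimes h1 h2 dvd_rfl
        omega
    · rw [show φ'.ker = φ.ker.comap e0.symm.toMonoidHom from (MonoidHom.comap_ker _ _).symm,
        Nat.card_congr (Equiv.subtypeEquiv e0.symm.toEquiv (fun x => Iff.rfl) :
          ↥(φ.ker.comap e0.symm.toMonoidHom) ≃ ↥φ.ker)]
      exact Nat.coprime_two_right.2 hker
  let e : ↥(H0.map ι) ⧸ Cfsg.pPrimeCore 2 ↥(H0.map ι) ≃* Cfsg.PSU 3 F (2 ^ n) :=
    (QuotientGroup.quotientMulEquivOfEq hcore).trans (QuotientGroup.quotientKerEquivOfSurjective φ' hφ's)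
  let S' : Sylow 2 ↥(H0.map ι) := P.mapSurjective (f := e0.toMonoidHom) e0.surjective
  have hT : (S : Subgroup G).map ι = (S' : Subgroup ↥(H0.map ι)).map (H0.map ι).subtype := by
    ext w
    constructor
    · rintro ⟨u, hu, rfl⟩
      exact ⟨e0 ⟨u, hSH hu⟩, ⟨⟨u, hSH hu⟩, hu, rfl⟩, rfl⟩
    · rintro ⟨_, ⟨u, hu, rfl⟩, rfl⟩
      exact ⟨u, hu, rfl⟩
  have haT : ι a ∈ (S : Subgroup G).map ι ⊓ centralizer (((S : Subgroup G).map ι : Subgroup (Ext ρ)) : Set (Ext ρ)) := by
    refine ⟨mem_map_of_mem ι haS.1, mem_centralizer_iff.2 ?_⟩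
    rintro _ ⟨u, hu, rfl⟩
    rw [← map_mul, ← map_mul, mem_centralizer_iff.1 haS.2 u hu]
  have h4 : 3 ≤ 2 ^ n := by
    have : 2 ^ 2 ≤ 2 ^ n := Nat.pow_le_pow_right (by norm_num) hn
    omega
  obtain ⟨h1, h2⟩ := CfsgLib.LocalEven.UnitaryBound.psu_bounds (vSub_comm ρ) (vSub_pow ρ) (normal_le ρ _)
    (faithful ρ hρ H0) (n := n) rfl h4 hF e S' hT haT
    (fun h => ha (SemidirectProduct.inr_injective (h.trans (map_one ι).symm)))
  rw [card_vSub, ← pow_mul, Nat.pow_le_pow_iff_right (by norm_num)] at h1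
  rw [relIndex_eq, ← pow_mul, Nat.pow_le_pow_iff_right (by norm_num)] at h2
  refine ⟨by omega, fun c hc => ?_⟩
  rw [hc, Nat.pow_le_pow_iff_right (by norm_num)] at hcentre
  omega

end CfsgLib.Involution.SEModule
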