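import Cfsg.Agent.Lib.Involution.SEModule.RankOne
import Cfsg.Agent.Lib.Involution.SEModule.Bounds
import Cfsg.Agent.Lib.Involution.StronglyEmbedded
import Cfsg.Agent.Lib.LocalEven.StronglyEmbedded
import Cfsg.Prelude.Def_EvenType
import Cfsg.Prelude.Def_Sz

/-!
Module bounds for groups with a strongly embedded subgroup, deduced from the structural form of Bender's theorem.
-/

set_option autoImplicit false
set_option linter.style.haveILetI false

namespace CfsgLib.Involution.SEModule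

open Subgroup

/-- The conclusion of Bender's theorem in structural form, for the group `H`. -/
def BenderStructure (H : Type*) [Group H] : Prop :=
  (∀ t : H, orderOf t = 2 → Cfsg.pPrimeCore 2 H ⊔ Subgroup.centralizer ({t} : Set H) = ⊤ ∧
      ∀ u ∈ Subgroup.centralizer ({t} : Set H), orderOf u = 2 → u = t) ∨
    (∃ (F : Type) (_ : Field F) (_ : Fintype F), CharP F 2 ∧ 4 ≤ Fintype.card F ∧
      Nonempty (↥(Cfsg.pElementClosure 2 (⊤ : Subgroup (H ⧸ Cfsg.pPrimeCore 2 H))) ≃*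
        Matrix.SpecialLinearGroup (Fin 2) F)) ∨
    (∃ (F : Type) (_ : Field F) (_ : Fintype F) (q : ℕ), Even q ∧ 4 ≤ q ∧ Fintype.card F = q ^ 2 ∧
      Nonempty (↥(Cfsg.pElementClosure 2 (⊤ : Subgroup (H ⧸ Cfsg.pPrimeCore 2 H))) ≃* Cfsg.PSU 3 F q)) ∨
    Cfsg.Lie.IsoSuzuki ↥(Cfsg.pElementClosure 2 (⊤ : Subgroup (H ⧸ Cfsg.pPrimeCore 2 H)))

variable {G : Type*} [Group G] [Finite G]

/-- The classical definition gives the one by the generated core. -/
theorem isStronglyPEmbedded {H : Subgroup G} (hH : Cfsg.IsStronglyEmbedded H) :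
    Cfsg.IsStronglyPEmbedded 2 H := by
  classical
  haveI : Fact (Nat.Prime 2) := ⟨Nat.prime_two⟩
  have h2 : 2 ∣ Nat.card H := even_iff_two_dvd.1 hH.2.1
  obtain ⟨P⟩ : Nonempty (Sylow 2 H) := inferInstance
  obtain ⟨T, hT⟩ := (P.2.map H.subtype).exists_le_sylow
  have hcard : Nat.card T = Nat.card P := by
    rw [T.card_eq_multiplicity, P.card_eq_multiplicity, ← H.card_mul_index, Nat.factorization_mul Nat.card_pos.ne'
      index_ne_zero_of_finite, Finsupp.add_apply,
      Nat.factorization_eq_zero_of_not_dvd (n := H.index) (fun h =>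
        Nat.not_even_iff_odd.2 (SE.odd_index hH) (even_iff_two_dvd.2 h)), add_zero]
  have heq : (P : Subgroup H).map H.subtype = (T : Subgroup G) := eq_of_le_of_card_ge hT
    (by rw [card_map_of_injective H.subtype_injective, hcard])
  refine ⟨h2.trans (card_subgroup_dvd_card H), hH.1, T, ?_⟩
  rw [CfsgLib.LocalEven.StronglyEmbedded.kGeneratedCore_le_iff T.2]
  intro U hU hU1 g hg
  obtain ⟨x, hx, hxo⟩ := CfsgLib.LocalEven.StronglyEmbedded.exists_order_p (T.2.to_le hU) hU1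
  have hle : U ≤ H := hU.trans (heq ▸ map_subtype_le _)
  exact SE.mem_of_conj_mem hH (hle hx) hxo (hle ((mem_normalizer_iff.1 hg x).1 hx))

variable {V : Type*} [AddCommGroup V] [Module (ZMod 2) V] [Module.Finite (ZMod 2) V]

/-- The two bounds. -/
theorem bounds_of_structure (hB : BenderStructure G) {H : Subgroup G} (hH : Cfsg.IsStronglyEmbedded H)
    (S : Sylow 2 G) (ρ : Representation (ZMod 2) G V) (hρ : Function.Injective ρ) :
    (∀ k : ℕ, Nat.card ↥(S : Subgroup G) = 2 ^ k → 2 * k ≤ Module.finrank (ZMod 2) V) ∧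
      ∀ n : ℕ, (∀ z ∈ (S : Subgroup G) ⊓ Subgroup.centralizer ((S : Subgroup G) : Set G), z ^ 2 = 1) →
        Nat.card ↥((S : Subgroup G) ⊓ Subgroup.centralizer ((S : Subgroup G) : Set G)) = 2 ^ n →
          ∀ s ∈ (S : Subgroup G), s ≠ 1 → n ≤ Module.finrank (ZMod 2) ↥(LinearMap.range (ρ s - 1)) := by
  classical
  haveI : Fact (Nat.Prime 2) := ⟨Nat.prime_two⟩
  haveI : (Cfsg.pPrimeCore 2 G).Normal := CfsgLib.Solvable.Cores.pPrimeCore_normal 2
  have hev : 2 ∣ Nat.card G := (even_iff_two_dvd.1 hH.2.1).trans (card_subgroup_dvd_card H)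
  haveI : Nontrivial ↥(S : Subgroup G) := (nontrivial_iff_ne_bot _).2 (S.ne_bot_of_dvd_card hev)
  haveI := S.2.center_nontrivial
  obtain ⟨i, hi, hicard⟩ :=
    (S.2.to_subgroup (center ↥(S : Subgroup G))).nontrivial_iff_card.1 inferInstance
  obtain ⟨⟨⟨a, haS⟩, hac⟩, hao⟩ := exists_prime_orderOf_dvd_card' (G := center ↥(S : Subgroup G)) 2
    (hicard ▸ dvd_pow_self 2 hi.ne')
  rw [orderOf_mk, orderOf_mk] at hao
  have haZ : a ∈ (S : Subgroup G) ⊓ centralizer ((S : Subgroup G) : Set G) :=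
    ⟨haS, mem_centralizer_iff.2 fun u hu => congrArg Subtype.val (mem_center_iff.1 hac ⟨u, hu⟩)⟩
  obtain ⟨k, hk⟩ := S.2.exists_card_eq
  have hpow : ∀ s ∈ (S : Subgroup G), s ≠ 1 → ∃ l : ℕ, orderOf (s ^ l) = 2 := by
    intro s hs hs1
    obtain ⟨j, hj⟩ := IsPGroup.iff_orderOf.1 S.2 ⟨s, hs⟩
    rw [orderOf_mk] at hj
    have hj0 : j ≠ 0 := by
      rintro rfl
      exact hs1 (orderOf_eq_one_iff.1 (by simpa using hj))
    exact ⟨orderOf s / 2, orderOf_pow_orderOf_div (orderOf_pos s).ne' (hj ▸ dvd_pow_self 2 hj0)⟩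
  have hconj : ∀ b c : G, orderOf b = 2 → orderOf c = 2 → IsConj b c := fun b c => SE.all_conj hH
  -- reduction of the second bound to the central involution
  have red : (2 * k ≤ Module.finrank (ZMod 2) V) →
      (∀ n : ℕ, (∀ z ∈ (S : Subgroup G) ⊓ Subgroup.centralizer ((S : Subgroup G) : Set G), z ^ 2 = 1) →
        Nat.card ↥((S : Subgroup G) ⊓ Subgroup.centralizer ((S : Subgroup G) : Set G)) = 2 ^ n → n ≤ crank ρ a) →
      (∀ k : ℕ, Nat.card ↥(S : Subgroup G) = 2 ^ k → 2 * k ≤ Module.finrank (ZMod 2) V) ∧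
      ∀ n : ℕ, (∀ z ∈ (S : Subgroup G) ⊓ Subgroup.centralizer ((S : Subgroup G) : Set G), z ^ 2 = 1) →
        Nat.card ↥((S : Subgroup G) ⊓ Subgroup.centralizer ((S : Subgroup G) : Set G)) = 2 ^ n →
          ∀ s ∈ (S : Subgroup G), s ≠ 1 → n ≤ Module.finrank (ZMod 2) ↥(LinearMap.range (ρ s - 1)) := by
    intro h1 h2
    refine ⟨fun k' hk' => (Nat.pow_right_injective le_rfl (hk.symm.trans hk') : k = k') ▸ h1,
      fun n hz hn s hs hs1 => ?_⟩
    obtain ⟨l, hl⟩ := hpow s hs hs1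
    obtain ⟨g, hg⟩ := isConj_iff.1 (hconj a _ hao hl)
    refine (h2 n hz hn).trans ?_
    rw [← crank_conj ρ g a, hg]
    exact crank_pow_le ρ s l
  set L := Cfsg.pElementClosure 2 (⊤ : Subgroup (G ⧸ Cfsg.pPrimeCore 2 G)) with hL
  set H0 := L.comap (QuotientGroup.mk' (Cfsg.pPrimeCore 2 G)) with hH0
  set π : ↥H0 →* ↥L := (QuotientGroup.mk' (Cfsg.pPrimeCore 2 G)).subgroupComap L with hπdef
  have hπ : Function.Surjective π :=
    MonoidHom.subgroupComap_surjective_of_surjective _ _ (QuotientGroup.mk'_surjective _)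
  have hπker : Odd (Nat.card π.ker) := by
    have h : Nat.card π.ker ∣ Nat.card (Cfsg.pPrimeCore 2 G) := by
      refine card_dvd_of_injective (((H0.subtype).comp π.ker.subtype).codRestrict _ fun x => ?_)
        (fun x y h => Subtype.ext (Subtype.ext (by simpa using congrArg Subtype.val h)))
      exact (QuotientGroup.eq_one_iff _).1 (congrArg Subtype.val (MonoidHom.mem_ker.1 x.2))
    exact Nat.coprime_two_right.1 ((CfsgLib.Solvable.Cores.coprime_card_pPrimeCore 2).coprime_dvd_left h)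
  have hSH : (S : Subgroup G) ≤ H0 := by
    intro s hs
    obtain ⟨j, hj⟩ := IsPGroup.iff_orderOf.1 S.2 ⟨s, hs⟩
    rw [orderOf_mk] at hj
    obtain ⟨j', -, hj'⟩ := (Nat.dvd_prime_pow Nat.prime_two).1
      (hj ▸ orderOf_map_dvd (QuotientGroup.mk' (Cfsg.pPrimeCore 2 G)) s)
    exact subset_closure ⟨mem_top _, j', hj'⟩
  have hodd_comp : ∀ {Q : Type} [Group Q] (e : ↥L ≃* Q), Odd (Nat.card (e.toMonoidHom.comp π).ker) := by
    intro Q _ e
    rw [show (e.toMonoidHom.comp π).ker = π.ker from by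
      ext x; simp [MonoidHom.mem_ker]]
    exact hπker
  have hZle : ∀ n, Nat.card ↥((S : Subgroup G) ⊓ centralizer ((S : Subgroup G) : Set G)) = 2 ^ n → n ≤ k :=
    fun n hn => (Nat.pow_le_pow_iff_right one_lt_two).1 (hn ▸ hk ▸ card_le_of_le inf_le_left)
  rcases hB with h1 | ⟨F, _, _, _, h4, ⟨e⟩⟩ | ⟨F, _, _, q, hq, h4, hF, ⟨e⟩⟩ | ⟨F, _, _, m, hm, hF, ⟨e⟩⟩
  · obtain ⟨hgen, huniq⟩ := h1 a hao
    have hu : ∀ u ∈ (S : Subgroup G), u * u = 1 → u = 1 ∨ u = a := fun u hu h2 => by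
      by_cases h : u = 1
      · exact Or.inl h
      · exact Or.inr (huniq u (mem_centralizer_singleton_iff.2 (mem_centralizer_iff.1 haZ.2 u hu))
          (orderOf_eq_prime (by rw [pow_two]; exact h2) h))
    have ha1 : a ≠ 1 := fun h => by rw [h, orderOf_one] at hao; omega
    have haa : a * a = 1 := by rw [← pow_two, ← hao, pow_orderOf_eq_one]
    have hnc : ¬ Cfsg.pPrimeCore 2 G ≤ centralizer ({a} : Set G) := fun hle => by
      have htop : centralizer ({a} : Set G) = ⊤ := le_antisymm le_top (hgen ▸ sup_le hle le_rfl)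
      obtain ⟨x, hx⟩ := SE.exists_fixed hH hao
      obtain ⟨g, rfl⟩ := QuotientGroup.mk_surjective x
      rw [SE.fixes_mk_iff] at hx
      have hcg : ∀ y : G, a * y = y * a := fun y =>
        (mem_centralizer_singleton_iff.1 (htop ▸ mem_top y)).symm
      rw [show g⁻¹ * a * g = a by rw [mul_assoc, hcg, inv_mul_cancel_left]] at hx
      exact hH.1 (eq_top_iff.2 fun y _ => SE.mem_of_conj_mem hH hx hao (by
        rwa [← hcg, mul_inv_cancel_right]))
    refine red (two_mul_le_finrank ρ hρ (O := Cfsg.pPrimeCore 2 G) S.2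
      (Nat.coprime_two_right.1 (CfsgLib.Solvable.Cores.coprime_card_pPrimeCore 2)) haS haa ha1 hu hnc hk)
      fun n hz hn => ?_
    have hn1 : n ≤ 1 := by
      have h2 : Nat.card ↥((S : Subgroup G) ⊓ centralizer ((S : Subgroup G) : Set G)) ≤ Nat.card Bool := by
        refine Nat.card_le_card_of_injective (fun x => decide (x.1 = 1)) fun x y hxy => Subtype.ext ?_
        simp only [decide_eq_decide] at hxy
        rcases hu x.1 x.2.1 (by rw [← pow_two]; exact hz x.1 x.2) with hx | hx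
        · rw [hx, hxy.1 hx]
        · rcases hu y.1 y.2.1 (by rw [← pow_two]; exact hz y.1 y.2) with hy | hy
          · rw [hy, hxy.2 hy]
          · rw [hx, hy]
      rw [hn, show Nat.card Bool = 2 ^ 1 by simp] at h2
      exact (Nat.pow_le_pow_iff_right one_lt_two).1 h2
    refine hn1.trans (Submodule.one_le_finrank_iff.2 fun hbot => ?_)
    have h0 : ρ a = 1 := by
      rw [LinearMap.range_eq_bot, sub_eq_zero] at hbot
      exact hbot
    exact ha1 (hρ (h0.trans (map_one ρ).symm))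
  · obtain ⟨hd, hc⟩ := case_sl h4 ρ hρ (e.toMonoidHom.comp π) (e.surjective.comp hπ) (hodd_comp e) S hSH haS hao hk
    exact red hd fun n _ hn => (hZle n hn).trans hc
  · obtain ⟨n, rfl⟩ : ∃ n, q = 2 ^ n := by
      obtain ⟨p', hp'⟩ := CharP.exists F
      obtain ⟨l, hpp, hl⟩ := FiniteField.card F p'
      rw [hF] at hl
      have hp2 : p' = 2 := by
        have h1 : 2 ∣ p' ^ (l : ℕ) := hl ▸ dvd_pow hq.two_dvd two_ne_zero
        exact ((Nat.prime_dvd_prime_iff_eq Nat.prime_two hpp).1 (Nat.prime_two.dvd_of_dvd_pow h1)).symm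
      obtain ⟨j, -, hj⟩ := (Nat.dvd_prime_pow hpp).1 (hl ▸ dvd_pow_self q two_ne_zero : q ∣ p' ^ (l : ℕ))
      exact ⟨j, hp2 ▸ hj⟩
    have hn : 2 ≤ n := by
      by_contra h
      have : 2 ^ n ≤ 2 ^ 1 := Nat.pow_le_pow_right (by norm_num) (by omega)
      omega
    obtain ⟨hd, hc⟩ := case_psu hn hF ρ hρ (e.toMonoidHom.comp π) (e.surjective.comp hπ) (hodd_comp e) S hSH haZ
      (fun h => by rw [h, orderOf_one] at hao; omega) hk
    exact red hd fun n' _ hn' => hc n' hn'
  · obtain ⟨hd, hc⟩ := case_sz hm hF ρ hρ hconj (e.toMonoidHom.comp π) (e.surjective.comp hπ) (hodd_comp e) S hSH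
      hao hk
    exact red hd fun n _ hn => (hZle n hn).trans hc

end CfsgLib.Involution.SEModule
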