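import Mathlib

/-!
Arithmetic of the small general linear groups over the field with two elements.
-/

set_option autoImplicit false

namespace CfsgLib.Involution.SEModule

/-- The odd part of `|GL (2k-1, 2)|`, for `k ≤ 5`. -/
def oddPartGL : ℕ → ℕ
  | 1 => 1
  | 2 => 21
  | 3 => 9765
  | 4 => 78129765
  | 5 => 10180699028325
  | _ => 0

theorem dvd_oddPartGL {r a k d : ℕ} (hr : r.Prime) (h2 : r ≠ 2) (hk1 : 1 ≤ k) (hk5 : k ≤ 5) (hd : d < 2 * k)
    (h : r ^ a ∣ ∏ j : Fin d, (2 ^ d - 2 ^ (j : ℕ))) : r ^ a ∣ oddPartGL k := by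
  have key : (∏ j : Fin d, (2 ^ d - 2 ^ (j : ℕ))) ∣ 2 ^ 36 * oddPartGL k := by
    interval_cases k <;> interval_cases d <;> norm_num [oddPartGL, Fin.prod_univ_succ]
  have hcop : Nat.Coprime (r ^ a) (2 ^ 36) :=
    Nat.Coprime.pow a 36 ((Nat.coprime_primes hr Nat.prime_two).2 h2)
  exact hcop.dvd_of_dvd_mul_left (h.trans key)

theorem arith_absurd {r a i k d : ℕ} (hr : r.Prime) (h2 : r ≠ 2) (ha : 3 ≤ a) (hi : 1 ≤ i) (hia : i < a)
    (hk1 : 1 ≤ k) (hk5 : k ≤ 5) (hd : d < 2 * k) (h : r ^ a ∣ ∏ j : Fin d, (2 ^ d - 2 ^ (j : ℕ)))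
    (hdiv : 2 ^ k ∣ r ^ i - 1) : False := by
  have h1 := dvd_oddPartGL hr h2 hk1 hk5 hd h
  have h9 : r ^ a ∣ 10180699028325 := h1.trans (by interval_cases k <;> norm_num [oddPartGL])
  have hr3 : r ^ 3 ∣ 10180699028325 := (pow_dvd_pow r ha).trans h9
  have hlist : r ∣ 3 ^ 5 * (5 ^ 2 * (7 ^ 3 * (17 * (31 * (73 * 127))))) :=
    (dvd_pow_self r three_ne_zero).trans (hr3.trans (by norm_num))
  have pe : ∀ {p : ℕ}, p.Prime → r ∣ p → r = p := fun hp hd => (Nat.prime_dvd_prime_iff_eq hr hp).1 hd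
  have hcases : r = 3 ∨ r = 7 := by
    rcases hr.dvd_mul.1 hlist with h | h
    · exact Or.inl (pe Nat.prime_three (hr.dvd_of_dvd_pow h))
    rcases hr.dvd_mul.1 h with h | h
    · obtain rfl := pe Nat.prime_five (hr.dvd_of_dvd_pow h); norm_num at hr3
    rcases hr.dvd_mul.1 h with h | h
    · exact Or.inr (pe (by norm_num) (hr.dvd_of_dvd_pow h))
    rcases hr.dvd_mul.1 h with h | h
    · obtain rfl := pe (by norm_num) h; norm_num at hr3
    rcases hr.dvd_mul.1 h with h | h
    · obtain rfl := pe (by norm_num) h; norm_num at hr3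
    rcases hr.dvd_mul.1 h with h | h
    · obtain rfl := pe (by norm_num) h; norm_num at hr3
    · obtain rfl := pe (by norm_num) h; norm_num at hr3
  rcases hcases with rfl | rfl
  · have ha5 : a ≤ 5 := by
      by_contra hc
      have := (pow_dvd_pow 3 (show 6 ≤ a by omega)).trans h9
      norm_num at this
    interval_cases k <;> interval_cases a <;> interval_cases i <;>
      first | (norm_num at hdiv; done) | (norm_num [oddPartGL] at h1; done)
  · have ha3 : a ≤ 3 := by
      by_contra hc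
      have := (pow_dvd_pow 7 (show 4 ≤ a by omega)).trans h9
      norm_num at this
    interval_cases k <;> interval_cases a <;> interval_cases i <;>
      first | (norm_num at hdiv; done) | (norm_num [oddPartGL] at h1; done)

end CfsgLib.Involution.SEModule
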