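import Cfsg.Agent.Lib.Involution.SEModule.Semiregular
import Cfsg.Agent.Lib.Involution.SEModule.Arith
import Cfsg.Agent.Lib.FrobRealize.Quaternion
import Cfsg.Agent.Lib.Solvable.FewSylowPrimePower.Forward

/-!
A group with a Sylow `2`-subgroup `S` of order `2 ^ k` with a single involution, which does not centralise the
largest normal subgroup of odd order, has no faithful representation of dimension below `2 * k` over the field
with two elements.
-/

set_option autoImplicit false
set_option linter.style.haveILetI false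

namespace CfsgLib.Involution.SEModule

open Subgroup

variable {G : Type*} [Group G] [Finite G]

/-- Prime by prime search for an invariant `r`-subgroup moved by `z`. -/
theorem exists_minimal_moved {S O : Subgroup G} [O.Normal] (hS : IsPGroup 2 S) (hO : Odd (Nat.card O)) {z : G}
    (hnc : ¬ O ≤ centralizer ({z} : Set G)) :
    ∃ (r : ℕ) (R : Subgroup G), r.Prime ∧ r ≠ 2 ∧ IsPGroup r R ∧ S ≤ normalizer (R : Set G) ∧
      ¬ R ≤ centralizer ({z} : Set G) ∧
      ∀ R' : Subgroup G, R' ≤ R → S ≤ normalizer (R' : Set G) → ¬ R' ≤ centralizer ({z} : Set G) → R' = R := by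
  classical
  haveI : Fact (Nat.Prime 2) := ⟨Nat.prime_two⟩
  haveI : Group.IsNilpotent S := hS.isNilpotent
  obtain ⟨j, hj⟩ := hS.exists_card_eq
  have hSO : S ≤ normalizer (O : Set G) := le_of_le_of_eq le_top (normalizer_eq_top O).symm
  have hcop : (Nat.card S).Coprime (Nat.card O) := hj ▸ (Nat.coprime_two_left.2 hO).pow_left j
  obtain ⟨r, hr, Q, hQO, hQr, hSQ, hQz⟩ : ∃ (r : ℕ), r.Prime ∧ ∃ Q : Subgroup G, Q ≤ O ∧ IsPGroup r Q ∧
      S ≤ normalizer (Q : Set G) ∧ ¬ Q ≤ centralizer ({z} : Set G) := by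
    by_contra hcon
    push Not at hcon
    refine hnc (inf_eq_left.1 (eq_of_le_of_card_ge inf_le_left (Nat.le_of_dvd Nat.card_pos ?_)))
    rw [← Nat.factorization_le_iff_dvd Nat.card_pos.ne' Nat.card_pos.ne', Finsupp.le_def]
    intro r
    by_cases hr : r.Prime
    · haveI := Fact.mk hr
      obtain ⟨Q, -, hQO, hQr, hSQ, hQc⟩ := CfsgLib.Solvable.FewSylowPP.exists_invariant_sylow_above (r := r) hSO
        hcop inferInstance (bot_le (a := O)) IsPGroup.of_bot (le_of_le_of_eq le_top (normalizer_eq_top _).symm)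
      have h : Q ≤ O ⊓ centralizer ({z} : Set G) := le_inf hQO (hcon r hr Q hQO hQr hSQ)
      exact (hr.pow_dvd_iff_le_factorization Nat.card_pos.ne').1 (hQc ▸ card_dvd_of_le h)
    · rw [Nat.factorization_eq_zero_of_not_prime _ hr]
      exact Nat.zero_le _
  have hr2 : r ≠ 2 := by
    rintro rfl
    refine hQz ?_
    obtain ⟨i, hi⟩ := hQr.exists_card_eq
    rcases i.eq_zero_or_pos with rfl | hi0
    · rw [pow_zero] at hi
      rw [card_eq_one.1 hi]
      exact bot_le
    · have h : 2 ∣ Nat.card O := (hi ▸ dvd_pow_self 2 hi0.ne').trans (card_dvd_of_le hQO)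
      have := Nat.odd_iff.1 hO
      omega
  obtain ⟨R, ⟨hRQ, hSR, hRz⟩, hmin⟩ := Set.exists_min_image
    {R : Subgroup G | R ≤ Q ∧ S ≤ normalizer (R : Set G) ∧ ¬ R ≤ centralizer ({z} : Set G)}
    (fun R => Nat.card R) (Set.toFinite _) ⟨Q, le_rfl, hSQ, hQz⟩
  exact ⟨r, R, hr, hr2, hQr.to_le hRQ, hSR, hRz, fun R' h1 h2 h3 =>
    eq_of_le_of_card_ge h1 (hmin R' ⟨h1.trans hRQ, h2, h3⟩)⟩

/-- The order of a free orbit set. -/
theorem dvd_card_of_free {S : Type*} [Group S] [Finite S] {α : Type*} [Finite α] [MulAction S α]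
    (h : ∀ (x : α) (s : S), s • x = x → s = 1) : Nat.card S ∣ Nat.card α := by
  classical
  haveI := Fintype.ofFinite (Quotient (MulAction.orbitRel S α))
  rw [Nat.card_congr (MulAction.selfEquivSigmaOrbitsQuotientStabilizer S α), Nat.card_sigma]
  refine Finset.dvd_sum fun q _ => ?_
  rw [show MulAction.stabilizer S q.out = ⊥ from (eq_bot_iff_forall _).2 fun s hs => h _ s hs,
    Nat.card_congr QuotientGroup.quotientBot.toEquiv]

/-- An element whose order is a quarter or more of the group order. -/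
theorem exists_big_order {S : Subgroup G} (hS : IsPGroup 2 S) {z : G}
    (huniq : ∀ u ∈ S, u * u = 1 → u = 1 ∨ u = z) {k : ℕ} (hk : Nat.card S = 2 ^ k) (hk2 : 2 ≤ k) :
    ∃ s ∈ S, orderOf s = 2 ^ (k - 1) := by
  classical
  haveI : Fact (Nat.Prime 2) := ⟨Nat.prime_two⟩
  have hfew : Nat.card {x : S // x ^ 2 = 1} ≤ 2 := by
    let f : {x : S // x ^ 2 = 1} → Bool := fun x => decide (((x : S) : G) = 1)
    have hf : Function.Injective f := fun a b hab => by
      have key : ∀ x : {x : S // x ^ 2 = 1}, ((x : S) : G) = 1 ∨ ((x : S) : G) = z := fun x =>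
        huniq _ x.1.2 (by rw [← pow_two, ← SubgroupClass.coe_pow, x.2]; rfl)
      refine Subtype.ext (Subtype.ext ?_)
      simp only [f, decide_eq_decide] at hab
      rcases key a with ha | ha
      · rw [ha, hab.1 ha]
      · rcases key b with hb | hb
        · rw [hb, hab.2 hb]
        · rw [ha, hb]
    exact (Nat.card_le_card_of_injective f hf).trans (by simp)
  rcases CfsgLib.FrobRealize.Quaternion.cyclic_or_quaternion hS hfew with hc | ⟨-, n, ⟨e⟩⟩
  · obtain ⟨g, hg⟩ := hc.exists_generator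
    have hgo : orderOf g = 2 ^ k := hk ▸ orderOf_eq_card_of_forall_mem_zpowers hg
    refine ⟨((g ^ 2 : S) : G), (g ^ 2).2, ?_⟩
    rw [orderOf_coe, orderOf_pow, hgo]
    obtain ⟨k', rfl⟩ : ∃ k', k = k' + 1 := ⟨k - 1, by omega⟩
    rw [Nat.gcd_eq_right (dvd_pow_self 2 (by omega)), Nat.add_sub_cancel, pow_succ, Nat.mul_div_cancel _ two_pos]
  · have hn : 2 ^ k = 4 * 2 ^ n := by
      rw [← hk, Nat.card_congr e.toEquiv]
      exact (Nat.card_eq_fintype_card).trans QuaternionGroup.card
    have hkn : k = n + 2 := Nat.pow_right_injective le_rfl (show 2 ^ k = 2 ^ (n + 2) by rw [hn, pow_add]; ring)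
    refine ⟨((e.symm (QuaternionGroup.a 1) : S) : G), SetLike.coe_mem _, ?_⟩
    rw [orderOf_coe, e.symm.orderOf_eq, QuaternionGroup.orderOf_a_one, hkn, Nat.add_sub_assoc (by norm_num),
      pow_succ']

variable {V : Type*} [AddCommGroup V] [Module (ZMod 2) V] [Module.Finite (ZMod 2) V]

/-- The bound in rank one. -/
theorem two_mul_le_finrank (ρ : Representation (ZMod 2) G V) (hρ : Function.Injective ρ)
    {S O : Subgroup G} [O.Normal] (hS : IsPGroup 2 S) (hO : Odd (Nat.card O)) {z : G} (hzS : z ∈ S)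
    (hz2 : z * z = 1) (hz1 : z ≠ 1) (huniq : ∀ u ∈ S, u * u = 1 → u = 1 ∨ u = z)
    (hnc : ¬ O ≤ centralizer ({z} : Set G)) {k : ℕ} (hk : Nat.card S = 2 ^ k) :
    2 * k ≤ Module.finrank (ZMod 2) V := by
  classical
  haveI : Fact (Nat.Prime 2) := ⟨Nat.prime_two⟩
  have hzi : z⁻¹ = z := inv_eq_of_mul_eq_one_right hz2
  have hzc : ∀ s ∈ S, Commute s z := fun s hs => by
    rcases huniq (s * z * s⁻¹) (mul_mem (mul_mem hs hzS) (inv_mem hs))
      (by rw [show s * z * s⁻¹ * (s * z * s⁻¹) = s * (z * z) * s⁻¹ by group, hz2, mul_one, mul_inv_cancel]) with h | h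
    · exact absurd (conj_eq_one_iff.1 h) hz1
    · exact mul_inv_eq_iff_eq_mul.1 h
  have hk1 : 1 ≤ k := by
    rcases Nat.eq_zero_or_pos k with rfl | h
    · rw [pow_zero, card_eq_one] at hk
      rw [hk, mem_bot] at hzS
      exact absurd hzS hz1
    · exact h
  have hzpow : ∀ s ∈ S, s ≠ 1 → ∃ i : ℕ, s ^ i = z := by
    intro s hs hs1
    obtain ⟨i, hi⟩ := IsPGroup.iff_orderOf.1 hS ⟨s, hs⟩
    rw [orderOf_mk] at hi
    have hi0 : i ≠ 0 := by
      rintro rfl
      exact hs1 (orderOf_eq_one_iff.1 (by simpa using hi))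
    refine ⟨orderOf s / 2, ?_⟩
    have ho : orderOf (s ^ (orderOf s / 2)) = 2 :=
      orderOf_pow_orderOf_div (orderOf_pos s).ne' (hi ▸ dvd_pow_self 2 hi0)
    rcases huniq _ (pow_mem hs _) (by rw [← pow_two, ← ho, pow_orderOf_eq_one]) with h | h
    · rw [h, orderOf_one] at ho
      omega
    · exact h
  obtain ⟨r, R, hr, hr2, hRr, hSR, hRz, hmin⟩ := exists_minimal_moved hS hO hnc
  haveI := Fact.mk hr
  obtain ⟨a, ha⟩ := hRr.exists_card_eq
  have hRodd : Odd (Nat.card R) := ha ▸ (hr.odd_of_ne_two hr2).pow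
  have hR1 : R ≠ ⊥ := fun h => hRz (h ▸ bot_le)
  have hS1 : S ≠ ⊥ := fun h => hz1 (mem_bot.1 (h ▸ hzS))
  by_cases hab : ∀ x ∈ R, ∀ y ∈ R, x * y = y * x
  · -- `z` inverts `R`
    let I : Subgroup G :=
      { carrier := {x | x ∈ R ∧ z * x * z = x⁻¹}
        one_mem' := ⟨one_mem _, by rw [mul_one, hz2, inv_one]⟩
        mul_mem' := fun {x y} hx hy => ⟨mul_mem hx.1 hy.1, by
          rw [show z * (x * y) * z = z * x * (z * z) * y * z by rw [hz2]; group,
            show z * x * (z * z) * y * z = (z * x * z) * (z * y * z) by group, hx.2, hy.2, mul_inv_rev,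
            hab _ (inv_mem hx.1) _ (inv_mem hy.1)]⟩
        inv_mem' := fun {x} hx => ⟨inv_mem hx.1, by
          rw [inv_inv, show z * x⁻¹ * z = (z⁻¹ * x * z⁻¹)⁻¹ by group, hzi, hx.2, inv_inv]⟩ }
    have hIR : I = R := by
      refine hmin I (fun x hx => hx.1) (fun s hs => mem_normalizer_iff.2 fun x => ?_) ?_
      · have e : z * (s * x * s⁻¹) * z = s * (z * x * z) * s⁻¹ := by
          calc z * (s * x * s⁻¹) * z = (z * s) * x * (s⁻¹ * z) := by group
            _ = _ := by rw [← (hzc s hs).eq, (hzc s hs).inv_left.eq]; group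
        show x ∈ R ∧ z * x * z = x⁻¹ ↔ s * x * s⁻¹ ∈ R ∧ z * (s * x * s⁻¹) * z = (s * x * s⁻¹)⁻¹
        rw [e, ← mem_normalizer_iff.1 (hSR hs) x, conj_inv, mul_left_inj, mul_right_inj]
      · obtain ⟨x, hxR, hxz⟩ := SetLike.not_le_iff_exists.1 hRz
        have hzx : z * x * z ∈ R := by
          have := (mem_normalizer_iff.1 (hSR hzS) x).1 hxR
          rwa [hzi] at this
        set y := x * (z * x * z)⁻¹ with hy
        have hyR : y ∈ R := mul_mem hxR (inv_mem hzx)
        have hyi : z * y * z = y⁻¹ := by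
          calc z * y * z = (z * x * z) * (z⁻¹ * z⁻¹ * x⁻¹ * z⁻¹ * z) := by rw [hy]; group
            _ = (z * x * z) * x⁻¹ := by simp only [hzi, mul_assoc, hz2, mul_one, one_mul]
            _ = y⁻¹ := by rw [hy]; group
        intro hle
        have hyc : y * z = z * y := mem_centralizer_singleton_iff.1 (hle ⟨hyR, hyi⟩)
        have hy2 : y ^ 2 = 1 := by
          rw [← hyc, mul_assoc, hz2, mul_one] at hyi
          rw [pow_two]
          nth_rw 2 [hyi]
          exact mul_inv_cancel y
        have hy1 : y = 1 := by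
          have h1 := orderOf_dvd_of_pow_eq_one hy2
          have h2 : orderOf y ∣ Nat.card R := orderOf_mk y hyR ▸ orderOf_dvd_natCard _
          exact orderOf_eq_one_iff.1
            (Nat.eq_one_of_dvd_coprimes (Nat.coprime_two_left.2 hRodd) h1 h2)
        apply hxz
        rw [mem_centralizer_singleton_iff]
        have h3 : x = z * x * z := mul_inv_eq_one.1 hy1
        calc x * z = z * x * z * z := by rw [← h3]
          _ = z * x := by rw [mul_assoc _ z z, hz2, mul_one]
    have hfree : ∀ s ∈ S, s ≠ 1 → ∀ x ∈ R, s * x = x * s → x = 1 := by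
      intro s hs hs1 x hx hc
      obtain ⟨i, hi⟩ := hzpow s hs hs1
      have hcz : Commute z x := hi ▸ (show Commute s x from hc).pow_left i
      have hxI : z * x * z = x⁻¹ := (hIR.symm ▸ hx : x ∈ I).2
      rw [hcz.eq, mul_assoc, hz2, mul_one] at hxI
      have h1 : orderOf x ∣ 2 := orderOf_dvd_of_pow_eq_one (by rw [pow_two]; nth_rw 2 [hxI]; exact mul_inv_cancel x)
      have h2 : orderOf x ∣ Nat.card R := orderOf_mk x hx ▸ orderOf_dvd_natCard _
      exact orderOf_eq_one_iff.1 (Nat.eq_one_of_dvd_coprimes (Nat.coprime_two_left.2 hRodd) h1 h2)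
    refine le_trans ?_ (hk ▸ card_le_finrank ρ hρ hS hS1 hR1 hRodd hSR hfree)
    clear * - hk1
    induction k with
    | zero => omega
    | succ j ih =>
      rcases Nat.eq_zero_or_pos j with rfl | h
      · norm_num
      · have := ih h
        rw [pow_succ]
        omega
  · -- `R` is not abelian
    by_contra hd
    push Not at hd
    rcases Nat.lt_or_ge 5 k with hk6 | hk5
    · obtain ⟨s, -, hso⟩ := exists_big_order hS huniq hk (by omega)
      obtain ⟨j, rfl⟩ : ∃ j, k = j + 6 := ⟨k - 6, by omega⟩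
      rw [show j + 6 - 1 = (j + 4) + 1 by omega] at hso
      have h := pow_lt_finrank ρ hρ hso
      have h16 : 2 * (j + 6) ≤ 2 ^ (j + 4) := by
        clear * -
        induction j with
        | zero => norm_num
        | succ j ih => rw [show j + 1 + 4 = (j + 4) + 1 by omega, pow_succ]; omega
      omega
    set C := R ⊓ centralizer ({z} : Set G) with hC
    have hCR : C ≠ R := fun h => hRz (inf_eq_left.1 h)
    have hC1 : C ≠ ⊥ := by
      intro hbot
      apply hab
      haveI : Group.IsNilpotent R := hRr.isNilpotent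
      have hD : ⁅R, R⁆ ≤ centralizer ({z} : Set G) := by
        by_contra hn
        have h1 : ⁅R, R⁆ ≤ R := commutator_le.2 fun x hx y hy =>
          mul_mem (mul_mem (mul_mem hx hy) (inv_mem hx)) (inv_mem hy)
        have h2 : S ≤ normalizer ((⁅R, R⁆ : Subgroup G) : Set G) := fun s hs =>
          mem_normalizer_iff_map_conj_eq.2 (by
            rw [map_commutator, mem_normalizer_iff_map_conj_eq.1 (hSR hs)])
        have h3 := hmin _ h1 h2 hn
        haveI : Nontrivial R := (nontrivial_iff_ne_bot R).2 hR1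
        refine (Group.IsSolvable.commutator_lt_top_of_nontrivial R).ne (map_injective R.subtype_injective ?_)
        rw [map_subtype_commutator, h3, ← MonoidHom.range_eq_map, range_subtype]
      intro x hx y hy
      have hm : x * y * x⁻¹ * y⁻¹ ∈ C := ⟨R.mul_mem (R.mul_mem (R.mul_mem hx hy) (R.inv_mem hx)) (R.inv_mem hy),
        hD (commutator_mem_commutator hx hy)⟩
      rw [hbot, mem_bot] at hm
      exact mul_inv_eq_iff_eq_mul.1 (mul_inv_eq_one.1 hm)
    obtain ⟨c, hc⟩ := (hRr.to_le (inf_le_left : C ≤ R)).exists_card_eq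
    have hca : c < a := by
      by_contra hn
      exact hCR (eq_of_le_of_card_ge inf_le_left (ha ▸ hc ▸ Nat.pow_le_pow_right hr.pos (not_lt.1 hn)))
    have hc0 : c ≠ 0 := by
      rintro rfl
      exact hC1 (card_eq_one.1 (by rw [hc, pow_zero]))
    have ha3 : 3 ≤ a := by
      by_contra hn
      obtain rfl : a = 2 := by omega
      apply hab
      intro x hx y hy
      haveI : IsMulCommutative R := IsPGroup.isMulCommutative_of_card_eq_prime_sq (p := r) ha
      exact setLike_mul_comm hx hy
    -- semiregular on `R \ C`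
    have hfreeset : Nat.card S ∣ Nat.card ↥((R : Set G) \ (C : Set G)) := by
      have hconj : ∀ s : S, ∀ x : ↥((R : Set G) \ (C : Set G)), (s : G) * x * (s : G)⁻¹ ∈ (R : Set G) \ (C : Set G) := by
        intro s x
        refine ⟨(mem_normalizer_iff.1 (hSR s.2) _).1 x.2.1, fun h => x.2.2 ⟨x.2.1, ?_⟩⟩
        have hc' := mem_centralizer_singleton_iff.1 h.2
        show (x : G) ∈ centralizer ({z} : Set G)
        rw [mem_centralizer_singleton_iff]
        calc (x : G) * z = (s : G)⁻¹ * ((s : G) * x * (s : G)⁻¹ * z) * s := by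
              rw [show (s : G) * x * (s : G)⁻¹ * z = (s : G) * x * ((s : G)⁻¹ * z) by group,
                ((hzc s s.2).inv_left).eq]
              group
          _ = (s : G)⁻¹ * (z * ((s : G) * x * (s : G)⁻¹)) * s := by rw [hc']
          _ = ((s : G)⁻¹ * z * s) * x := by group
          _ = z * x := by rw [((hzc s s.2).inv_left).eq]; group
      letI : MulAction S ↥((R : Set G) \ (C : Set G)) :=
        { smul := fun s x => ⟨_, hconj s x⟩
          one_smul := fun x => Subtype.ext (by show ((1 : S) : G) * x * ((1 : S) : G)⁻¹ = x; simp)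
          mul_smul := fun s t x => Subtype.ext (by
            show ((s * t : S) : G) * x * ((s * t : S) : G)⁻¹ = (s : G) * ((t : G) * x * (t : G)⁻¹) * (s : G)⁻¹
            simp [mul_assoc]) }
      refine dvd_card_of_free fun x s hsx => ?_
      by_contra hs1
      obtain ⟨i, hi⟩ := hzpow s s.2 (fun h => hs1 (Subtype.ext h))
      have h1 : Commute (s : G) x := mul_inv_eq_iff_eq_mul.1 (congrArg Subtype.val hsx)
      exact x.2.2 ⟨x.2.1, mem_centralizer_singleton_iff.2 (hi ▸ h1.pow_left i).symm⟩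
    have hcount : Nat.card ↥((R : Set G) \ (C : Set G)) = r ^ c * (r ^ (a - c) - 1) := by
      rw [Nat.card_coe_set_eq, Set.ncard_sdiff (fun x hx => hx.1) (Set.toFinite _), ← Nat.card_coe_set_eq,
        ← Nat.card_coe_set_eq, Nat.mul_sub, mul_one, ← pow_add, Nat.add_sub_cancel' hca.le]
      exact congrArg₂ (· - ·) ha hc
    rw [hk, hcount] at hfreeset
    have hdiv : 2 ^ k ∣ r ^ (a - c) - 1 :=
      (Nat.Coprime.pow k c ((Nat.coprime_primes Nat.prime_two hr).2 hr2.symm)).dvd_of_dvd_mul_left hfreeset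
    refine arith_absurd hr hr2 ha3 (by omega) (by omega) hk1 hk5 hd ?_ hdiv
    set b := Module.finBasis (ZMod 2) V
    let f : R →* GL (Fin (Module.finrank (ZMod 2) V)) (ZMod 2) :=
      MonoidHom.toHomUnits (((LinearMap.toMatrixAlgEquiv b).toMulEquiv.toMonoidHom).comp (ρ.comp R.subtype))
    have hf : Function.Injective f := fun x y hxy => Subtype.ext (hρ
      ((LinearMap.toMatrixAlgEquiv b).injective (congrArg Units.val hxy)))
    have h := card_dvd_of_injective f hf
    rw [ha, Matrix.card_GL_field] at h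
    simpa [ZMod.card] using h

end CfsgLib.Involution.SEModule
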