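import Mathlib

/-!
A `2`-group acting semiregularly on a nontrivial group `R` of odd order needs at least `|S|` dimensions in every
faithful representation of `RS` over the field with two elements.
-/

set_option autoImplicit false
set_option linter.style.haveILetI false

namespace CfsgLib.Involution.SEModule

variable {G : Type*} [Group G] [Finite G] {V : Type*} [AddCommGroup V] [Module (ZMod 2) V]
  [Module.Finite (ZMod 2) V]

omit [Module.Finite (ZMod 2) V] in
/-- Some vector has its full orbit sum nonzero. -/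
theorem exists_orbit_sum_ne_zero (ρ : Representation (ZMod 2) G V) (hρ : Function.Injective ρ)
    {S R : Subgroup G} [Fintype S] (hR1 : R ≠ ⊥) (hRodd : Odd (Nat.card R))
    (hSR : S ≤ Subgroup.normalizer (R : Set G))
    (hfree : ∀ s ∈ S, s ≠ 1 → ∀ r ∈ R, s * r = r * s → r = 1) :
    ∃ v : V, ∑ s : S, ρ (s : G) v ≠ 0 := by
  classical
  letI := Fintype.ofFinite R
  by_contra hcon
  push Not at hcon
  have hT : ∑ s : S, ρ (s : G) = 0 := LinearMap.ext fun v => by
    rw [LinearMap.coe_sum, Finset.sum_apply]; exact hcon v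
  set P : V →ₗ[ZMod 2] V := ∑ r : R, ρ (r : G) with hP
  have hodd : ((Fintype.card R : ℕ) : ZMod 2) = 1 :=
    ZMod.natCast_eq_one_iff_odd.2 (Nat.card_eq_fintype_card (α := R) ▸ hRodd)
  -- conjugates of the sum over `S`
  have key : ∀ s : S, ∑ r : R, ρ ((r : G) * s * (r : G)⁻¹) = if s = 1 then 1 else ρ (s : G) * P := by
    intro s
    split_ifs with h
    · subst h
      simp only [OneMemClass.coe_one, mul_one, mul_inv_cancel, map_one, Finset.sum_const, Finset.card_univ]
      rw [← Nat.cast_smul_eq_nsmul (ZMod 2), hodd, one_smul]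
    · have hs1 : (s : G) ≠ 1 := fun e => h (Subtype.ext e)
      have hmem : ∀ r : R, (s : G)⁻¹ * r * s * (r : G)⁻¹ ∈ R := fun r =>
        mul_mem ((Subgroup.mem_normalizer_iff''.1 (hSR s.2) _).1 r.2) (inv_mem r.2)
      let f : R → R := fun r => ⟨_, hmem r⟩
      have hf : Function.Injective f := fun a b hab => by
        have e : (s : G)⁻¹ * a * s * (a : G)⁻¹ = (s : G)⁻¹ * b * s * (b : G)⁻¹ := congrArg Subtype.val hab
        have hc : ((b : G)⁻¹ * a) = 1 := by
          refine hfree s s.2 hs1 _ (mul_mem (inv_mem b.2) a.2) ?_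
          calc (s : G) * ((b : G)⁻¹ * a)
              = (b : G)⁻¹ * (s : G) * ((s : G)⁻¹ * b * s * (b : G)⁻¹) * a := by group
            _ = (b : G)⁻¹ * (s : G) * ((s : G)⁻¹ * a * s * (a : G)⁻¹) * a := by rw [e]
            _ = (b : G)⁻¹ * a * s := by group
        exact Subtype.ext (inv_mul_eq_one.1 hc).symm
      have hfb := Finite.injective_iff_bijective.1 hf
      rw [hP, Finset.mul_sum]
      refine Fintype.sum_bijective f hfb _ _ fun r => ?_
      rw [← map_mul]
      exact congrArg ρ (by show _ = (s : G) * ((s : G)⁻¹ * r * s * (r : G)⁻¹); group)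
  have h0 : ∑ s : S, (if s = 1 then (1 : V →ₗ[ZMod 2] V) else ρ (s : G) * P) = 0 := by
    simp only [← key]
    rw [Finset.sum_comm]
    refine Finset.sum_eq_zero fun r _ => ?_
    simp only [map_mul]
    rw [← Finset.sum_mul, ← Finset.mul_sum, hT, mul_zero, zero_mul]
  have h1 : (1 : V →ₗ[ZMod 2] V) = P := by
    have h2 : ∑ s : S, ρ (s : G) * P = 0 := by rw [← Finset.sum_mul, hT, zero_mul]
    rw [← Finset.add_sum_erase _ _ (Finset.mem_univ (1 : S))] at h0 h2
    rw [Finset.sum_congr rfl (g := fun s : S => ρ (s : G) * P) fun s hs => if_neg (Finset.ne_of_mem_erase hs),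
      if_pos rfl] at h0
    rw [OneMemClass.coe_one, map_one, one_mul] at h2
    exact add_right_cancel (h0.trans h2.symm)
  obtain ⟨r0, hr0, hr01⟩ := R.bot_or_exists_ne_one.resolve_left hR1
  refine hr01 (hρ ?_)
  have h2 : ρ r0 * P = P := by
    rw [hP, Finset.mul_sum]
    exact Fintype.sum_bijective (fun r : R => ⟨r0, hr0⟩ * r) (Group.mulLeft_bijective _) _ _
      (fun r => by rw [← map_mul]; rfl)
  rw [← h1, mul_one] at h2
  rw [h2, map_one]

theorem zmod_two_cases : ∀ c : ZMod 2, c = 0 ∨ c = 1 := by decide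

/-- The dimension bound. -/
theorem card_le_finrank (ρ : Representation (ZMod 2) G V) (hρ : Function.Injective ρ)
    {S R : Subgroup G} (hS : IsPGroup 2 S) (hS1 : S ≠ ⊥) (hR1 : R ≠ ⊥) (hRodd : Odd (Nat.card R))
    (hSR : S ≤ Subgroup.normalizer (R : Set G))
    (hfree : ∀ s ∈ S, s ≠ 1 → ∀ r ∈ R, s * r = r * s → r = 1) :
    Nat.card S ≤ Module.finrank (ZMod 2) V := by
  classical
  haveI : Fact (Nat.Prime 2) := ⟨Nat.prime_two⟩
  letI := Fintype.ofFinite S
  haveI : Nontrivial S := (Subgroup.nontrivial_iff_ne_bot S).2 hS1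
  obtain ⟨n, hn, hcard⟩ := hS.nontrivial_iff_card.1 inferInstance
  obtain ⟨v, hv⟩ := exists_orbit_sum_ne_zero ρ hρ hR1 hRodd
    hSR hfree
  let L : (S → ZMod 2) →ₗ[ZMod 2] V :=
    { toFun := fun f => ∑ s : S, f s • ρ (s : G) v
      map_add' := fun f g => by simp [add_smul, Finset.sum_add_distrib]
      map_smul' := fun c f => by simp [Finset.smul_sum, mul_smul] }
  suffices hL : LinearMap.ker L = ⊥ by
    have h := LinearMap.finrank_le_finrank_of_injective (LinearMap.ker_eq_bot.1 hL)
    rwa [Module.finrank_fintype_fun_eq_card, ← Nat.card_eq_fintype_card] at h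
  set K := LinearMap.ker L with hK
  have hmemK : ∀ f : S → ZMod 2, f ∈ K ↔ L f = 0 := fun f => LinearMap.mem_ker
  have hLf : ∀ (t : S) (f : S → ZMod 2), L (fun x => f (t⁻¹ * x)) = ρ (t : G) (L f) := by
    intro t f
    show ∑ s : S, f (t⁻¹ * s) • ρ (s : G) v = ρ (t : G) (∑ s : S, f s • ρ (s : G) v)
    rw [map_sum]
    refine Fintype.sum_bijective (fun s : S => t⁻¹ * s) (Group.mulLeft_bijective _) _ _ fun s => ?_
    rw [map_smul, ← Module.End.mul_apply, ← map_mul, ← Subgroup.coe_mul, mul_inv_cancel_left]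
  letI act : MulAction S ↥K :=
    { smul := fun t f => ⟨fun x => (f : S → ZMod 2) (t⁻¹ * x), by
        rw [hmemK, hLf, (hmemK _).1 f.2, map_zero]⟩
      one_smul := fun f => Subtype.ext (funext fun x => by
        show (f : S → ZMod 2) ((1 : S)⁻¹ * x) = _; rw [inv_one, one_mul])
      mul_smul := fun a b f => Subtype.ext (funext fun x => by
        show (f : S → ZMod 2) ((a * b)⁻¹ * x) = (f : S → ZMod 2) (b⁻¹ * (a⁻¹ * x))
        rw [mul_inv_rev, mul_assoc]) }
  by_contra hne
  have h2 : 2 ∣ Nat.card ↥K := by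
    rw [Module.natCard_eq_pow_finrank (K := ZMod 2), Nat.card_zmod]
    exact dvd_pow_self 2 (Nat.one_le_iff_ne_zero.1 (Submodule.one_le_finrank_iff.2 hne))
  obtain ⟨f, hf, hf0⟩ := hS.exists_fixed_point_of_prime_dvd_card_of_fixed_point ↥K h2
    (a := (0 : ↥K)) (fun t => Subtype.ext (funext fun x => rfl))
  have hconst : ∀ x : S, (f : S → ZMod 2) x = (f : S → ZMod 2) 1 := fun x => by
    have h := congrArg (fun g : ↥K => (g : S → ZMod 2) x) (hf x)
    change (f : S → ZMod 2) (x⁻¹ * x) = (f : S → ZMod 2) x at h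
    rwa [inv_mul_cancel, eq_comm] at h
  have h01 := zmod_two_cases
  rcases h01 ((f : S → ZMod 2) 1) with h | h
  · exact hf0 (Subtype.ext (funext fun x => ((hconst x).trans h).symm))
  · refine hv ?_
    have hk := LinearMap.mem_ker.1 f.2
    change ∑ s : S, (f : S → ZMod 2) s • ρ (s : G) v = 0 at hk
    simpa [hconst, h] using hk

omit [Finite G] in
/-- A unipotent element of order `2 ^ (e + 1)` needs more than `2 ^ e` dimensions. -/
theorem pow_lt_finrank (ρ : Representation (ZMod 2) G V) (hρ : Function.Injective ρ) {s : G} {e : ℕ}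
    (hs : orderOf s = 2 ^ (e + 1)) : 2 ^ e < Module.finrank (ZMod 2) V := by
  have key : ∀ j : ℕ, (ρ s - 1) ^ 2 ^ j = ρ (s ^ 2 ^ j) - 1 := by
    intro j
    induction j with
    | zero => simp
    | succ j ih =>
      rw [pow_succ, pow_mul, ih, pow_two, pow_mul, pow_two, map_mul]
      have h2 : ∀ a : V →ₗ[ZMod 2] V, -a = a := fun a =>
        neg_eq_of_add_eq_zero_left (LinearMap.ext fun x => ZModModule.add_self _)
      simp only [sub_eq_add_neg, h2, add_mul, mul_add, one_mul, mul_one]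
      have h5 : ρ (s ^ 2 ^ j) + ρ (s ^ 2 ^ j) = 0 := LinearMap.ext fun x => ZModModule.add_self _
      rw [add_assoc, ← add_assoc (ρ (s ^ 2 ^ j)) (ρ (s ^ 2 ^ j)), h5, zero_add]
  by_contra h
  push Not at h
  have hnil : IsNilpotent (ρ s - 1) := ⟨2 ^ (e + 1), by rw [key, ← hs, pow_orderOf_eq_one, map_one, sub_self]⟩
  have hd : (ρ s - 1) ^ Module.finrank (ZMod 2) V = 0 := by
    have h1 := LinearMap.aeval_self_charpoly (ρ s - 1)
    rwa [hnil.charpoly_eq_X_pow_finrank, map_pow, Polynomial.aeval_X] at h1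
  have h0 := pow_eq_zero_of_le h hd
  rw [key, sub_eq_zero] at h0
  have h1 := orderOf_dvd_of_pow_eq_one (hρ (h0.trans (map_one ρ).symm))
  rw [hs] at h1
  exact absurd ((Nat.pow_dvd_pow_iff_le_right (by norm_num)).1 h1) (by omega)

end CfsgLib.Involution.SEModule
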